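/-
Alternating (and other) sections of groups with a Bruhat decomposition, through a prime whose Sylow
subgroups lie in the torus.

* `exists_conj_eq` : elements of the torus conjugated into the torus are conjugated by the monomial
  group (abstract form: `U` a `p`-group normalised by `H`, `p ∤ |H|`);
* `pow_conj_eq_of_weyl` : the resulting bound on the automizer of a toral subgroup;
* `false_of_section` : no section with an `ℓ`-element whose automizer exceeds that bound.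
-/
import Cfsg.Agent.EqLemmas
import Mathlib.GroupTheory.Sylow
import Mathlib.GroupTheory.PGroup
import Mathlib.GroupTheory.Index

set_option autoImplicit false

namespace Cfsg.Agent.AltToral

open Subgroup

variable {G : Type*} [Group G]

/-- A `p`-element of `U * H` lies in `U` (`U` a `p`-group normalised by `H`, `p ∤ |H|`). -/
theorem mem_of_pow_eq_one {p : ℕ} [Fact p.Prime] (U H : Subgroup G) [Finite H]
    (hU : IsPGroup p U) (hH : ¬ p ∣ Nat.card H)
    (hnorm : ∀ h ∈ H, ∀ u ∈ U, h * u * h⁻¹ ∈ U) {u h : G} (hu : u ∈ U) (hh : h ∈ H) {k : ℕ}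
    (hk : (u * h) ^ p ^ k = 1) : h = 1 := by
  have key : ∀ j : ℕ, ∃ u' ∈ U, (u * h) ^ j = u' * h ^ j := by
    intro j
    induction j with
    | zero => exact ⟨1, U.one_mem, by simp⟩
    | succ j ih =>
      obtain ⟨u', hu', e⟩ := ih
      refine ⟨u' * (h ^ j * u * (h ^ j)⁻¹), mul_mem hu' (hnorm _ (pow_mem hh j) u hu), ?_⟩
      rw [pow_succ, e, pow_succ]
      group
  obtain ⟨u', hu', e⟩ := key (p ^ k)
  rw [hk] at e
  have hq : h ^ p ^ k ∈ U := by
    rw [eq_inv_of_mul_eq_one_right e.symm]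
    exact inv_mem hu'
  obtain ⟨i, hi⟩ := hU ⟨_, hq⟩
  have hi' : h ^ p ^ (k + i) = 1 := by
    rw [pow_add, pow_mul]
    exact congrArg (fun t : U => (t : G)) hi
  have h1 : (⟨h, hh⟩ : H) ^ p ^ (k + i) = 1 := Subtype.ext hi'
  obtain ⟨a, -, ha⟩ := (Nat.dvd_prime_pow Fact.out).1 (orderOf_dvd_of_pow_eq_one h1)
  rcases Nat.eq_zero_or_pos a with rfl | hpos
  · rw [pow_zero, orderOf_eq_one_iff] at ha
    exact congrArg (fun t : H => (t : G)) ha
  · exact absurd ((dvd_pow_self p hpos.ne').trans (ha ▸ orderOf_dvd_natCard _)) hH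

/-- Toral elements conjugated by `g = u n v` into the torus are conjugated by `n`. -/
theorem conj_eq {p : ℕ} [Fact p.Prime] (U H : Subgroup G) [Finite H]
    (hU : IsPGroup p U) (hH : ¬ p ∣ Nat.card H)
    (hnorm : ∀ h ∈ H, ∀ u ∈ U, h * u * h⁻¹ ∈ U) {u n v : G} (hu : u ∈ U) (hv : v ∈ U)
    {t : G} (ht : t ∈ H) (hnt : n * t * n⁻¹ ∈ H)
    (hgt : (u * n * v) * t * (u * n * v)⁻¹ ∈ H) :
    (u * n * v) * t * (u * n * v)⁻¹ = n * t * n⁻¹ := by
  set t' := (u * n * v) * t * (u * n * v)⁻¹ with ht'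
  set s := n * t * n⁻¹ with hs
  have hx : v * (t * v⁻¹ * t⁻¹) ∈ U := mul_mem hv (hnorm t ht _ (inv_mem hv))
  -- the element `n x n⁻¹` is a `p`-element of `U * H` with torus part `t' * s⁻¹`
  have e : n * (v * (t * v⁻¹ * t⁻¹)) * n⁻¹ = (u⁻¹ * (t' * u * t'⁻¹)) * (t' * s⁻¹) := by
    rw [ht', hs]; group
  obtain ⟨k, hk⟩ := hU ⟨_, hx⟩
  have hk' : (n * (v * (t * v⁻¹ * t⁻¹)) * n⁻¹) ^ p ^ k = 1 := by
    rw [conj_pow, show (v * (t * v⁻¹ * t⁻¹)) ^ p ^ k = 1 from congrArg (fun t : U => (t : G)) hk,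
      mul_one, mul_inv_cancel]
  rw [e] at hk'
  exact mul_inv_eq_one.1 (mem_of_pow_eq_one U H hU hH hnorm
    (mul_mem (inv_mem hu) (hnorm t' hgt u hu)) (mul_mem hgt (inv_mem hnt)) hk')

/-- With a Bruhat decomposition, elements of the torus normalised by `g` are moved as by a monomial element,
so the `k`-th power of `g` fixes them when `n ^ k` centralises the torus for every monomial `n`. -/
theorem pow_conj_eq_of_weyl {p : ℕ} [Fact p.Prime] (U H N : Subgroup G) [Finite H]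
    (hU : IsPGroup p U) (hH : ¬ p ∣ Nat.card H)
    (hnorm : ∀ h ∈ H, ∀ u ∈ U, h * u * h⁻¹ ∈ U) (hN : ∀ n ∈ N, ∀ h ∈ H, n * h * n⁻¹ ∈ H)
    (hbruhat : ∀ g : G, ∃ u ∈ U, ∃ n ∈ N, ∃ v ∈ U, g = u * n * v)
    {k : ℕ} (hk : ∀ n ∈ N, ∀ h ∈ H, n ^ k * h * (n ^ k)⁻¹ = h)
    (P : Subgroup G) (hP : P ≤ H) {g : G} (hg : ∀ t ∈ P, g * t * g⁻¹ ∈ P) {t : G} (ht : t ∈ P) :
    g ^ k * t * (g ^ k)⁻¹ = t := by
  obtain ⟨u, hu, n, hn, v, hv, rfl⟩ := hbruhat g
  have key : ∀ j : ℕ, ∀ s ∈ P, (u * n * v) ^ j * s * ((u * n * v) ^ j)⁻¹ ∈ P ∧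
      (u * n * v) ^ j * s * ((u * n * v) ^ j)⁻¹ = n ^ j * s * (n ^ j)⁻¹ := by
    intro j
    induction j with
    | zero => intro s hs; simp [hs]
    | succ j ih =>
      intro s hs
      obtain ⟨h1, h2⟩ := ih s hs
      have h3 := hg _ h1
      have h4 : (u * n * v) ^ (j + 1) * s * ((u * n * v) ^ (j + 1))⁻¹ =
          (u * n * v) * ((u * n * v) ^ j * s * ((u * n * v) ^ j)⁻¹) * (u * n * v)⁻¹ := by
        generalize u * n * v = w
        rw [pow_succ']
        group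
      refine ⟨h4 ▸ h3, ?_⟩
      rw [h4, conj_eq U H hU hH hnorm hu hv (hP h1) (hN n hn _ (hP h1)) (hP h3), h2, pow_succ']
      group
  rw [(key k t ht).2]
  exact hk n hn t (hP ht)

/-- No section of `G` contains an `ℓ`-element `c` and `a` normalising `⟨c⟩` with `a ^ k` not centralising
`c`, when the normaliser of an abelian Sylow `ℓ`-subgroup `P` induces automorphisms of exponent
dividing `k` on it. -/
theorem false_of_section [Finite G] {ℓ : ℕ} [Fact ℓ.Prime] (P : Sylow ℓ G)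
    (hab : ∀ x ∈ (P : Subgroup G), ∀ y ∈ (P : Subgroup G), x * y = y * x) {k : ℕ}
    (haut : ∀ g : G, (∀ t ∈ (P : Subgroup G), g * t * g⁻¹ ∈ (P : Subgroup G)) →
      ∀ t ∈ (P : Subgroup G), g ^ k * t * (g ^ k)⁻¹ = t)
    (H : Subgroup G) {A : Type*} [Group A] (φ : H →* A) (hφ : Function.Surjective φ)
    (c a : A) (hc : orderOf c = ℓ) (hac : a * c * a⁻¹ ∈ zpowers c)
    (hne : a ^ k * c * (a ^ k)⁻¹ ≠ c) : False := by
  set M : Subgroup H := (zpowers c).comap φ with hM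
  -- a Sylow subgroup of the preimage maps onto `⟨c⟩`
  set ψ : M →* zpowers c := φ.subgroupComap (zpowers c) with hψ
  have hψs : Function.Surjective ψ := fun z => by
    obtain ⟨x, hx⟩ := hφ (z : A)
    exact ⟨⟨x, by rw [hM, mem_comap, hx]; exact z.2⟩, Subtype.ext hx⟩
  obtain ⟨Q⟩ : Nonempty (Sylow ℓ M) := inferInstance
  obtain ⟨q0, hq0Q, hq0⟩ : ∃ q ∈ (Q : Subgroup M), φ (q : H) = c := by
    have hz : IsPGroup ℓ (zpowers c) :=
      IsPGroup.of_card (n := 1) (by rw [Nat.card_zpowers, hc, pow_one])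
    have htop : ((Q.mapSurjective hψs : Sylow ℓ (zpowers c)) : Subgroup (zpowers c)) = ⊤ :=
      ((Q.mapSurjective hψs).is_maximal' (hz.to_subgroup ⊤) le_top).symm
    have : (⟨c, mem_zpowers c⟩ : zpowers c) ∈
        ((Q.mapSurjective hψs : Sylow ℓ (zpowers c)) : Subgroup (zpowers c)) := by rw [htop]; trivial
    rw [Sylow.coe_mapSurjective, mem_map] at this
    obtain ⟨q, hq, e⟩ := this
    exact ⟨q, hq, congrArg (fun t : zpowers c => (t : A)) e⟩
  -- Frattini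
  obtain ⟨y₀, hy₀⟩ := hφ a
  have hM' : ∀ x ∈ M, y₀ * x * y₀⁻¹ ∈ M := by
    intro x hx
    rw [hM, mem_comap] at hx ⊢
    rw [map_mul, map_mul, map_inv, hy₀]
    obtain ⟨i, hi⟩ := mem_zpowers_iff.1 hx
    obtain ⟨j, hj⟩ := mem_zpowers_iff.1 hac
    refine mem_zpowers_iff.2 ⟨j * i, ?_⟩
    rw [zpow_mul, hj, conj_zpow, hi]
  set R : Subgroup G := ((Q : Subgroup M).map M.subtype).map H.subtype with hR
  have memR : ∀ {x : G}, x ∈ R ↔ ∃ q ∈ (Q : Subgroup M), ((q : H) : G) = x := by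
    intro x
    simp only [hR, mem_map, exists_exists_and_eq_and]
    rfl
  -- `y ∈ H` with `φ y = c^i a` normalising `Q`
  obtain ⟨y, hyQ, hyc⟩ : ∃ y : H, (∀ q ∈ (Q : Subgroup M), ∃ q' ∈ (Q : Subgroup M),
      (q' : H) = y * q * y⁻¹) ∧ ∀ j : ℕ, φ y ^ j * c * (φ y ^ j)⁻¹ = a ^ j * c * (a ^ j)⁻¹ := by
    let σ : M →* M :=
      { toFun := fun x => ⟨y₀ * x * y₀⁻¹, hM' x x.2⟩
        map_one' := Subtype.ext (by simp)
        map_mul' := fun x x' => Subtype.ext (by simp only [Subgroup.coe_mul]; group) }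
    have hσi : Function.Injective σ := fun x x' e => Subtype.ext
      (mul_left_cancel (mul_right_cancel (congrArg (fun t : M => (t : H)) e)))
    have hσ : Function.Bijective σ := ⟨hσi, Finite.injective_iff_surjective.1 hσi⟩
    obtain ⟨m, hm⟩ := MulAction.exists_smul_eq M (Q.mapSurjective hσ.2) Q
    refine ⟨(m : H) * y₀, fun q hq => ⟨m * σ q * m⁻¹, ?_, ?_⟩, ?_⟩
    · rw [← SetLike.mem_coe, ← hm]
      have : σ q ∈ ((Q.mapSurjective hσ.2 : Sylow ℓ M) : Subgroup M) := by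
        rw [Sylow.coe_mapSurjective]; exact mem_map_of_mem _ hq
      rw [Sylow.coe_subgroup_smul]
      exact ⟨σ q, this, rfl⟩
    · show (m : H) * (y₀ * q * y₀⁻¹) * (m : H)⁻¹ = _
      group
    · intro j
      have hm' : φ (m : H) ∈ zpowers c := mem_comap.1 m.2
      have h1 : ∀ z ∈ zpowers c, φ ((m : H) * y₀) * z * (φ ((m : H) * y₀))⁻¹ = a * z * a⁻¹ ∧
          a * z * a⁻¹ ∈ zpowers c := by
        intro z hz
        obtain ⟨i, rfl⟩ := mem_zpowers_iff.1 hz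
        obtain ⟨j, hj⟩ := mem_zpowers_iff.1 hac
        have h2 : a * c ^ i * a⁻¹ = c ^ (j * i) := by rw [zpow_mul, hj, conj_zpow]
        obtain ⟨l, hl⟩ := mem_zpowers_iff.1 hm'
        refine ⟨?_, h2 ▸ zpow_mem_zpowers _ _⟩
        rw [map_mul, hy₀, ← hl]
        calc c ^ l * a * c ^ i * (c ^ l * a)⁻¹ = c ^ l * (a * c ^ i * a⁻¹) * (c ^ l)⁻¹ := by group
          _ = _ := by rw [h2]; group
      induction j with
      | zero => simp
      | succ j ih =>
        have h3 : a ^ j * c * (a ^ j)⁻¹ ∈ zpowers c := by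
          clear ih
          induction j with
          | zero => simp
          | succ j ih => rw [pow_succ']; convert (h1 _ ih).2 using 1; group
        have h4 := (h1 _ h3).1
        rw [← ih] at h4
        rw [pow_succ', pow_succ']
        calc φ ((m : H) * y₀) * φ ((m : H) * y₀) ^ j * c * (φ ((m : H) * y₀) * φ ((m : H) * y₀) ^ j)⁻¹
            = φ ((m : H) * y₀) * (φ ((m : H) * y₀) ^ j * c * (φ ((m : H) * y₀) ^ j)⁻¹) *
                (φ ((m : H) * y₀))⁻¹ := by group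
          _ = a * (φ ((m : H) * y₀) ^ j * c * (φ ((m : H) * y₀) ^ j)⁻¹) * a⁻¹ := h4
          _ = _ := by rw [ih]; group
  -- move `R` into `P`
  obtain ⟨g₀, hg₀⟩ : ∃ g₀ : G, ∀ x ∈ R, g₀ * x * g₀⁻¹ ∈ (P : Subgroup G) := by
    have hRp : IsPGroup ℓ R := ((Q.isPGroup'.map M.subtype).map H.subtype)
    obtain ⟨P', hP'⟩ := hRp.exists_le_sylow
    obtain ⟨g, hg⟩ := MulAction.exists_smul_eq G P' P
    refine ⟨g, fun x hx => ?_⟩
    rw [← hg, Sylow.coe_subgroup_smul]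
    exact ⟨x, hP' hx, rfl⟩
  set y' := g₀ * (y : G) * g₀⁻¹ with hy'
  set S : Subgroup G := R.map (MulAut.conj g₀).toMonoidHom with hS
  have hSP : S ≤ (P : Subgroup G) := by
    rintro _ ⟨x, hx, rfl⟩; exact hg₀ x hx
  have hyS : ∀ s ∈ S, y' * s * y'⁻¹ ∈ S := by
    rintro _ ⟨x, hx, rfl⟩
    obtain ⟨q, hq, rfl⟩ := memR.1 hx
    obtain ⟨q', hq', e⟩ := hyQ q hq
    refine ⟨(y : G) * ((q : H) : G) * (y : G)⁻¹, memR.2 ⟨q', hq', ?_⟩, ?_⟩
    · rw [e]; rfl
    · simp only [MulEquiv.toMonoidHom_eq_coe, MonoidHom.coe_coe, MulAut.conj_apply, hy']; group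
  set C : Subgroup G := centralizer (S : Set G) with hC
  have hPC : (P : Subgroup G) ≤ C := fun x hx => mem_centralizer_iff.2 fun s hs => hab s (hSP hs) x hx
  have hyC : ∀ x ∈ (P : Subgroup G), y' * x * y'⁻¹ ∈ C := by
    intro x hx
    -- conjugation by `y'` maps the finite set `S` onto itself
    let f : S → S := fun s => ⟨y' * s * y'⁻¹, hyS s s.2⟩
    have hf : Function.Injective f := fun s s' e => Subtype.ext
      (mul_left_cancel (mul_right_cancel (congrArg (fun t : S => (t : G)) e)))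
    refine mem_centralizer_iff.2 fun s hs => ?_
    obtain ⟨s', hs'⟩ := Finite.injective_iff_surjective.1 hf ⟨s, hs⟩
    have hs'' : y' * (s' : G) * y'⁻¹ = s := congrArg (fun t : S => (t : G)) hs'
    have hcomm := hab _ (hSP s'.2) x hx
    rw [← hs'']
    calc y' * (s' : G) * y'⁻¹ * (y' * x * y'⁻¹) = y' * ((s' : G) * x) * y'⁻¹ := by group
      _ = y' * (x * (s' : G)) * y'⁻¹ := by rw [hcomm]
      _ = _ := by group
  obtain ⟨z, hz⟩ : ∃ z : C, ∀ x ∈ (P : Subgroup G),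
      (z : G) * (y' * x * y'⁻¹) * (z : G)⁻¹ ∈ (P : Subgroup G) := by
    set P₂ : Sylow ℓ G := y' • P with hP₂
    have hP₂C : (P₂ : Subgroup G) ≤ C := by
      rw [hP₂, Sylow.coe_subgroup_smul]
      rintro _ ⟨x, hx, rfl⟩; exact hyC x hx
    obtain ⟨z, hz⟩ := MulAction.exists_smul_eq C (P₂.subtype hP₂C) (P.subtype hPC)
    refine ⟨z, fun x hx => ?_⟩
    have h2 : (⟨y' * x * y'⁻¹, hyC x hx⟩ : C) ∈ (P₂.subtype hP₂C : Subgroup C) := by
      rw [Sylow.coe_subtype, mem_subgroupOf, hP₂, Sylow.coe_subgroup_smul]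
      exact ⟨x, hx, rfl⟩
    have h3 : MulAut.conj z ⟨y' * x * y'⁻¹, hyC x hx⟩ ∈ (P.subtype hPC : Subgroup C) := by
      rw [← hz, Sylow.coe_subgroup_smul]
      exact ⟨_, h2, rfl⟩
    rw [Sylow.coe_subtype, mem_subgroupOf] at h3
    exact h3
  set g := (z : G) * y' with hg
  have hgP : ∀ t ∈ (P : Subgroup G), g * t * g⁻¹ ∈ (P : Subgroup G) := fun t ht => by
    have := hz t ht
    rwa [show g * t * g⁻¹ = (z : G) * (y' * t * y'⁻¹) * (z : G)⁻¹ by rw [hg]; group]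
  have hgS : ∀ (j : ℕ) (s : G), s ∈ S → y' ^ j * s * (y' ^ j)⁻¹ ∈ S ∧
      g ^ j * s * (g ^ j)⁻¹ = y' ^ j * s * (y' ^ j)⁻¹ := by
    intro j
    induction j with
    | zero => intro s hs; simp [hs]
    | succ j ih =>
      intro s hs
      obtain ⟨h1, h2⟩ := ih s hs
      have h3 := hyS _ h1
      have h4 := mem_centralizer_iff.1 z.2 _ h3
      refine ⟨?_, ?_⟩
      · rw [pow_succ']; convert h3 using 1; group
      · rw [pow_succ' g, pow_succ' y']
        calc g * g ^ j * s * (g * g ^ j)⁻¹ = g * (g ^ j * s * (g ^ j)⁻¹) * g⁻¹ := by group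
          _ = (z : G) * (y' * (y' ^ j * s * (y' ^ j)⁻¹) * y'⁻¹) * (z : G)⁻¹ := by rw [h2, hg]; group
          _ = y' * (y' ^ j * s * (y' ^ j)⁻¹) * y'⁻¹ := by rw [← h4]; group
          _ = _ := by group
  have hs0 : g₀ * ((q0 : H) : G) * g₀⁻¹ ∈ S := mem_map_of_mem _ (memR.2 ⟨q0, hq0Q, rfl⟩)
  have e1 := haut g hgP _ (hSP hs0)
  rw [(hgS k _ hs0).2, hy', conj_pow] at e1
  have e2 : (y : G) ^ k * ((q0 : H) : G) * ((y : G) ^ k)⁻¹ = ((q0 : H) : G) := by
    refine mul_left_cancel (a := g₀) (mul_right_cancel (b := g₀⁻¹) ?_)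
    calc g₀ * ((y : G) ^ k * ((q0 : H) : G) * ((y : G) ^ k)⁻¹) * g₀⁻¹
        = g₀ * (y : G) ^ k * g₀⁻¹ * (g₀ * ((q0 : H) : G) * g₀⁻¹) * (g₀ * (y : G) ^ k * g₀⁻¹)⁻¹ := by
          group
      _ = _ := e1
  have e3 : φ (y ^ k * (q0 : H) * (y ^ k)⁻¹) = φ (q0 : H) := congrArg φ (Subtype.ext e2)
  rw [map_mul, map_mul, map_inv, map_pow, hq0, hyc] at e3
  exact hne e3

end Cfsg.Agent.AltToral
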