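/-
The automizer bound of `AltToral.Basic` for a group given by root data.
-/
import Cfsg.Agent.Lib.AltToral.Basic
import Cfsg.Agent.Lib.RGD.BN

set_option autoImplicit false

namespace Cfsg.Agent.AltToral

open Subgroup

variable {Γ : Type*} [Group Γ] {Φ I : Type*} (R : Cfsg.Agent.RGD.RootData Γ Φ I)

/-- Bruhat decomposition `G = U N U`. -/
theorem exists_unu {g : Γ} (hg : g ∈ R.G) :
    ∃ u ∈ R.Upos, ∃ n ∈ R.N, ∃ v ∈ R.Upos, g = u * n * v := by
  obtain ⟨w, hw⟩ := Cfsg.Agent.BN.exists_mem_C R.bnPair (⟨g, hg⟩ : R.G)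
  induction w using QuotientGroup.induction_on with
  | H n =>
    obtain ⟨b, hb, b', hb', e⟩ := (Cfsg.Agent.BN.mem_C_mk R.bnPair).1 hw
    obtain ⟨u, hu, h, hh, e1⟩ := R.exists_B (mem_subgroupOf.1 (R.bnPair_B ▸ hb))
    obtain ⟨v, hv, h', hh', e2⟩ := R.exists_B (mem_subgroupOf.1 (R.bnPair_B ▸ hb'))
    have hn : (((n : R.G)) : Γ) ∈ R.N := mem_subgroupOf.1 (R.bnPair_N ▸ n.2)
    refine ⟨u, hu, h * ((n : R.G) : Γ) * h',
      mul_mem (mul_mem (R.H_le_N hh) hn) (R.H_le_N hh'), h'⁻¹ * v * h', ?_, ?_⟩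
    · have := R.H_conj_span {s | R.pos s} (inv_mem hh') v hv
      rwa [inv_inv] at this
    · have e' : g = (b : Γ) * ((n : R.G) : Γ) * (b' : Γ) := congrArg (fun t : R.G => (t : Γ)) e
      rw [e', e1, e2]
      group

/-- In the group of the root data an element normalising a toral subgroup acts on it as a monomial element. -/
theorem pow_conj_eq_of_rootData {p : ℕ} [Fact p.Prime] [Finite R.H] (G₀ : Subgroup Γ) (hG₀ : G₀ = R.G)
    (hU : IsPGroup p R.Upos) (hH : ¬ p ∣ Nat.card R.H) {k : ℕ}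
    (hk : ∀ n ∈ R.N, ∀ h ∈ R.H, n ^ k * h * (n ^ k)⁻¹ = h)
    (P : Subgroup G₀) (hP : P ≤ R.H.subgroupOf G₀) {g : G₀} (hg : ∀ t ∈ P, g * t * g⁻¹ ∈ P)
    {t : G₀} (ht : t ∈ P) : g ^ k * t * (g ^ k)⁻¹ = t := by
  subst hG₀
  have hHG : R.H ≤ R.G := R.H_le_B.trans R.B_le_G
  have e := subgroupOfEquivOfLe hHG
  haveI : Finite (R.H.subgroupOf R.G) := Finite.of_equiv _ e.toEquiv.symm
  refine pow_conj_eq_of_weyl (R.Upos.subgroupOf R.G) (R.H.subgroupOf R.G) (R.N.subgroupOf R.G)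
    (hU.comap_of_injective R.G.subtype R.G.subtype_injective)
    (by rwa [Nat.card_congr e.toEquiv]) ?_ ?_ ?_ ?_ P hP hg ht
  · intro h hh u hu
    rw [mem_subgroupOf] at hh hu ⊢
    exact R.H_conj_span {s | R.pos s} hh u hu
  · intro n hn h hh
    rw [mem_subgroupOf] at hn hh ⊢
    exact R.conj_H_mem hn hh
  · intro x
    obtain ⟨u, hu, n, hn, v, hv, e⟩ := exists_unu R x.2
    exact ⟨⟨u, R.B_le_G (R.Upos_le_B hu)⟩, mem_subgroupOf.2 hu, ⟨n, R.N_le_G hn⟩,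
      mem_subgroupOf.2 hn, ⟨v, R.B_le_G (R.Upos_le_B hv)⟩, mem_subgroupOf.2 hv, Subtype.ext e⟩
  · intro n hn h hh
    exact Subtype.ext (hk n hn h hh)

/-- A Sylow subgroup of a subgroup of index prime to `ℓ` is one of the whole group. -/
theorem exists_sylow_le {G : Type*} [Group G] [Finite G] (ℓ : ℕ) [Fact ℓ.Prime] (H : Subgroup G)
    (h : ¬ ℓ ∣ H.index) : ∃ P : Sylow ℓ G, (P : Subgroup G) ≤ H := by
  obtain ⟨Q⟩ : Nonempty (Sylow ℓ H) := inferInstance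
  have hc : Nat.card ((Q : Subgroup H).map H.subtype) = ℓ ^ (Nat.card G).factorization ℓ := by
    rw [Subgroup.card_map_of_injective H.subtype_injective, Q.card_eq_multiplicity,
      ← H.card_mul_index, Nat.factorization_mul Nat.card_pos.ne' index_ne_zero_of_finite,
      Finsupp.add_apply, Nat.factorization_eq_zero_of_not_dvd h, add_zero]
  exact ⟨Sylow.ofCard _ hc, map_subtype_le _⟩

end Cfsg.Agent.AltToral
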